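import Groth.Agent.Lib.Goodman.Divisor
import Groth.Agent.Lib.HodgeIndex.NegCurves
import Groth.Agent.Lib.BlowUp.UFD
import Groth.Agent.Lib.AdicExtra.Completion
import Groth.Agent.Lib.GenericSmooth.Basic
import Groth.Agent.Lib.AlgMisc.GeomRegAt
import Groth.Agent.Lib.CurveMult.RationalPoint
import Groth.Agent.Lib.Euler.Scalar
import Groth.Agent.Lib.Euler.VB
import Groth.Agent.Lib.Euler.Slope2
import Groth.Agent.Lib.FinAff13.Poles
import Groth.Prelude.Def_TorSh

/-!
# Ideal sheaves of closed points on reduced curves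
-/

set_option autoImplicit false
set_option backward.isDefEq.respectTransparency false
set_option linter.all false
set_option maxHeartbeats 1000000

universe u

open CategoryTheory CategoryTheory.Limits AlgebraicGeometry TopologicalSpace Opposite IsLocalRing

noncomputable section

namespace GrothLib.PointIdeal16

open GrothLib.QCoh (stalkLin)

variable {X : Scheme.{u}} {P : X} (hP : IsClosed ({P} : Set X))

/-- The ideal sheaf of a closed point. -/
abbrev ptI : X.IdealSheafData := Scheme.IdealSheafData.vanishingIdeal ⟨{P}, hP⟩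

theorem st_ptI : Goodman.st (ptI hP) P = maximalIdeal (X.presheaf.stalk P) := by
  obtain ⟨V, hV, hPV, -⟩ := exists_isAffineOpen_mem_and_subset (show P ∈ (⊤ : X.Opens) from trivial)
  rw [Goodman.st_eq _ ⟨V, hV⟩ hPV]
  haveI := hV.isLocalization_stalk ⟨P, hPV⟩
  letI := X.presheaf.algebra_section_stalk (U := V) ⟨P, hPV⟩
  have hI : (ptI hP).ideal ⟨V, hV⟩ = (hV.primeIdealOf ⟨P, hPV⟩).asIdeal := by
    have hset : hV.fromSpec ⁻¹' ({P} : Set X) = {hV.primeIdealOf ⟨P, hPV⟩} := by
      ext q
      simp only [Set.mem_preimage, Set.mem_singleton_iff]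
      refine ⟨fun h => hV.fromSpec.isOpenEmbedding.injective ?_, fun h => ?_⟩
      · rw [hV.fromSpec_primeIdealOf]; exact h
      · subst h; rw [hV.fromSpec_primeIdealOf]
    show PrimeSpectrum.vanishingIdeal (hV.fromSpec ⁻¹' ({P} : Set X)) = _
    rw [hset, PrimeSpectrum.vanishingIdeal_singleton]
  rw [hI]
  exact IsLocalization.AtPrime.map_eq_maximalIdeal (hV.primeIdealOf ⟨P, hPV⟩).asIdeal (X.presheaf.stalk P)

/-- Torsion-free of rank one. -/
theorem isTorsionFree_ptI : TorSh.IsTorsionFree (ClSub.idealMod (ptI hP)) := fun x => by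
  haveI : Mono (ClSub.idealModι (ptI hP)) := inferInstanceAs (Mono (kernel.ι _))
  obtain ⟨D, e, hx, he⟩ := FinCov.exists_frame_nhd_of_rank
    (Euler.isFinLocFreeOfRank_one' (Euler.isInvertible_structure (X := X))) x
  obtain ⟨b⟩ := Euler.stalk_basis_of_frame he hx
  haveI : Module.Free (X.presheaf.stalk x) ((Coh.structureModule X).presheaf.stalk x) := Module.Free.of_basis b
  exact Function.Injective.moduleIsTorsionFree (stalkLin (ClSub.idealModι (ptI hP)) x)
    (QCoh.stalkLin_injective _ x) (map_smul _)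

theorem finrank_stalk_ptI {η : X} (hη : η ≠ P) :
    Module.finrank (X.presheaf.stalk η) ((ClSub.idealMod (ptI hP)).presheaf.stalk η) = 1 := by
  obtain ⟨D, e, hx, he⟩ := FinCov.exists_frame_nhd_of_rank
    (Euler.isFinLocFreeOfRank_one' (Euler.isInvertible_structure (X := X))) η
  obtain ⟨b⟩ := Euler.stalk_basis_of_frame he hx
  rw [(LinearEquiv.ofBijective _ (HodgeIndex.stalk_bijective_idealModι (ptI hP) (x := η)
    (fun h => hη h))).finrank_eq, Module.finrank_eq_card_basis b, Fintype.card_fin]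

theorem one_le_ringKrullDim (hdim : P ∉ genericPoints (X : Type u)) :
    1 ≤ ringKrullDim (X.presheaf.stalk P) := by
  rw [ringKrullDim_stalk_eq_coheight]
  have h : Order.coheight P ≠ 0 := fun h => by
    rw [Order.coheight_eq_zero] at h
    exact hdim (FinAff13.mem_genericPoints_iff.2 fun y hy =>
      (Specializes.antisymm hy (h (show P ≤ y from hy))).eq)
  exact_mod_cast Order.one_le_iff_pos.2 (pos_iff_ne_zero.2 h)

theorem regular_of_isInvertible [IsLocallyNoetherian X] (hdim : P ∉ genericPoints (X : Type u))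
    (h : PicF.IsInvertible (ClSub.idealMod (ptI hP))) : IsRegularLocalRing (X.presheaf.stalk P) := by
  obtain ⟨D, e, hx, he⟩ := FinCov.exists_frame_nhd_of_rank (Euler.isFinLocFreeOfRank_one' h) P
  obtain ⟨b⟩ := Euler.stalk_basis_of_frame he hx
  refine IsRegularLocalRing.of_spanFinrank_maximalIdeal_le _ (le_trans ?_ (one_le_ringKrullDim hdim))
  have hm : maximalIdeal (X.presheaf.stalk P) =
      Submodule.span (X.presheaf.stalk P) {OmegaBC.sval (ptI hP) P (b 0)} := by
    rw [← st_ptI hP, Goodman.st, LinearMap.range_eq_map, ← b.span_eq, Submodule.map_span, ← Set.range_comp,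
      Set.range_unique]
    rfl
  rw [hm]
  exact_mod_cast (Submodule.spanFinrank_span_le_ncard_of_finite (Set.finite_singleton _)).trans
    (le_of_eq (Set.ncard_singleton _))

theorem isInvertible_of_regular [IsLocallyNoetherian X] (hreg : IsRegularLocalRing (X.presheaf.stalk P))
    (hd : ringKrullDim (X.presheaf.stalk P) = 1) : PicF.IsInvertible (ClSub.idealMod (ptI hP)) := by
  refine IdealModSec.isInvertible_of_isEffCartier fun y => ?_
  haveI := hreg
  haveI : IsDomain (X.presheaf.stalk P) := CMFree.isDomain_of_isRegularLocalRing _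
  have hgen : ∀ v : (ptI hP).subscheme, (ptI hP).subschemeι v = P := fun v =>
    (ptI hP).range_subschemeι.le ⟨v, rfl⟩
  by_cases hy : y = P
  · subst hy
    haveI : UniqueFactorizationMonoid (X.presheaf.stalk y) := RegUFD.ufd_of_isRegularLocalRing _
    obtain ⟨U, hyU, hU⟩ := BlowUp.exists_cartierOn_of_ufd (ptI hP) (fun v _ => by rw [hgen v]; exact hd) y
    exact ⟨U, hyU, hU⟩
  · obtain ⟨U, hyU, hU⟩ := BlowUp.exists_affine_mem_le (W := (⟨{P}ᶜ, hP.isOpen_compl⟩ : X.Opens)) hy
    refine ⟨U, hyU, 1, Submonoid.one_mem _, ?_⟩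
    rw [Ideal.span_singleton_one]
    refine eq_top_iff.2 fun r _ => ?_
    show r ∈ PrimeSpectrum.vanishingIdeal (U.2.fromSpec ⁻¹' ({P} : Set X))
    rw [PrimeSpectrum.mem_vanishingIdeal]
    intro v hv
    have h2 : U.2.fromSpec v ∈ U.1 := by rw [← SetLike.mem_coe, ← U.2.range_fromSpec]; exact ⟨v, rfl⟩
    exact absurd (show U.2.fromSpec v ∈ ({P} : Set X) from hv) (hU h2)

variable (k : Type u) [Field k] [IsAlgClosed k] [X.Over (Spec (CommRingCat.of k))]
  [IsProper (X ↘ Spec (CommRingCat.of k))]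

include k in
theorem deg_ptI : Curv2.deg k X (ClSub.idealMod (ptI hP)) 1 = -1 := by
  haveI := Euler.isNoetherian_of_proper (X := X) k
  haveI := Euler.epi_toSubscheme (ptI hP)
  let S := ShortComplex.mk (ClSub.idealModι (ptI hP)) (ClSub.toSubscheme (ptI hP)) (kernel.condition _)
  haveI : Mono S.f := inferInstanceAs (Mono (kernel.ι (ClSub.toSubscheme (ptI hP))))
  haveI : Epi S.g := Euler.epi_toSubscheme (ptI hP)
  have hS : S.ShortExact := { exact := ShortComplex.exact_of_f_is_kernel _ (kernelIsKernel _) }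
  have hO : Coh.IsCoh (Coh.structureModule X) := Euler.isCoh_of_isInvertible Euler.isInvertible_structure
  have hQ : Coh.IsCoh (ClSub.quotMod (ptI hP)) := QCoh.pushUnit_isCoh _
  have hI : Coh.IsCoh (ClSub.idealMod (ptI hP)) := QCoh.isCoh_kernel _ hO hQ
  have hsupp : CohB1.support (ClSub.quotMod (ptI hP)) ⊆ ({P} : Set X) := Snapper.support_quotMod _
  have h1 := Euler.euler_additive k hS hI hO hQ
  have h2 : Curv2.euler k X (ClSub.quotMod (ptI hP)) = 1 := by
    rw [Euler.euler_eq_of_finite_support k _ ((Set.finite_singleton P).subset hsupp)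
      (fun y hy => (Set.mem_singleton_iff.1 (hsupp hy)) ▸ hP),
      CurveMult.finrank_H0_quotMod_rational k hP (Euler.exists_const_residue (X ↘ Spec (CommRingCat.of k)) hP).2]
    rfl
  change Curv2.euler k X (Coh.structureModule X) = Curv2.euler k X (ClSub.idealMod (ptI hP)) +
    Curv2.euler k X (ClSub.quotMod (ptI hP)) at h1
  rw [Curv2.deg]
  omega

omit [IsProper (X ↘ Spec (CommRingCat.of k))] in
include k in
/-- Regular points over algebraically closed fields have smooth neighbourhoods. -/
theorem exists_smooth_of_regular [LocallyOfFinitePresentation (X ↘ Spec (CommRingCat.of k))]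
    (hreg : IsRegularLocalRing (X.presheaf.stalk P)) :
    ∃ U : X.Opens, P ∈ U ∧ Smooth (U.ι ≫ (X ↘ (Spec (CommRingCat.of k)))) := by
  let f := X ↘ Spec (CommRingCat.of k)
  haveI := hreg
  let p : Spec (CommRingCat.of k) := f P
  have hfld : IsField ((Spec (CommRingCat.of k)).presheaf.stalk p) := by
    have h : p = genericPoint (Spec (CommRingCat.of k)) := Subsingleton.elim _ _
    rw [h]
    exact Field.toIsField (Spec (CommRingCat.of k)).functionField
  refine ⟨f.smoothLocus, GenericSmooth.mem_smoothLocus_of_regular f P hfld ?_,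
    GenericSmooth.smooth_smoothLocus_ι_comp f⟩
  letI := hfld.toField
  let φ : k →+* (Spec (CommRingCat.of k)).presheaf.stalk p :=
    ((Scheme.ΓSpecIso (CommRingCat.of k)).inv ≫ (Spec (CommRingCat.of k)).presheaf.germ ⊤ p trivial).hom
  have hφ : Function.Bijective φ := by
    refine ⟨φ.injective, fun y => ?_⟩
    obtain ⟨⟨a, s⟩, h⟩ := IsLocalization.surj (M := p.asIdeal.primeCompl)
      (S := (Spec.structureSheaf k).presheaf.stalk p) y
    have hs : (s : k) ≠ 0 := fun h0 => s.2 (h0 ▸ p.asIdeal.zero_mem)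
    refine ⟨(a : k) / (s : k), ?_⟩
    have h' : y * φ (s : k) = φ (a : k) := h
    refine ((((IsUnit.mk0 (s : k) hs).map φ).mul_left_inj).1 ?_)
    rw [h', ← map_mul]
    exact congrArg φ (div_mul_cancel₀ (a : k) hs)
  exact PerfectField.of_ringEquiv (RingEquiv.ofBijective φ hφ)

omit [IsAlgClosed k] [IsProper (X ↘ Spec (CommRingCat.of k))] in
include k in
theorem regular_of_smooth_nhd [LocallyOfFinitePresentation (X ↘ Spec (CommRingCat.of k))] (U : X.Opens)
    (hPU : P ∈ U) (hU : Smooth (U.ι ≫ (X ↘ (Spec (CommRingCat.of k))))) :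
    IsRegularLocalRing (X.presheaf.stalk P) := by
  haveI := hU
  haveI := Groth.Agent.Lib.AlgMisc.GeomRegAt.isRegularLocalRing_stalk_of_mem_smoothLocus (U.ι ≫ (X ↘ (Spec (CommRingCat.of k))))
    (x := (⟨P, hPU⟩ : U.toScheme)) (by rw [Scheme.Hom.smoothLocus_eq_top]; trivial)
  exact IsRegularLocalRing.of_ringEquiv (R := U.toScheme.presheaf.stalk (⟨P, hPU⟩ : U.toScheme))
    (asIso (U.ι.stalkMap (⟨P, hPU⟩ : U.toScheme))).commRingCatIsoToRingEquiv.symm

end GrothLib.PointIdeal16
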